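import Mathlib
import Groth.Agent.SplitLib.Base

/-!
# Arrows between points of a groupoid scheme, and transport along a subgroupoid with a quotient
-/

set_option autoImplicit false
set_option backward.isDefEq.respectTransparency false

universe u

open CategoryTheory CategoryTheory.Limits AlgebraicGeometry

noncomputable section

namespace Groth.Agent.QuotGrpd

open Split

variable {S : Scheme.{u}} {G : Grpd.GroupoidScheme S}

/-- Arrows between two points. -/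
@[ext]
structure Arr {T : Over S} (x y : T ⟶ oU G) where
  /-- the underlying arrow -/
  val : T ⟶ oR G
  src : val ≫ os G = x
  tgt : val ≫ ot G = y

variable {T T' : Over S} {x y z w : T ⟶ oU G}

/-- An arrow with its own ends. -/
def arr (r : T ⟶ oR G) : Arr (r ≫ os G) (r ≫ ot G) := ⟨r, rfl, rfl⟩

/-- The identity arrow. -/
def Arr.id (x : T ⟶ oU G) : Arr x x := ⟨x ≫ oe G, by simp, by simp⟩

/-- Composition, first `f` then `g`. -/
def Arr.then (f : Arr x y) (g : Arr y z) : Arr x z :=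
  ⟨cmp g.val f.val (g.src.trans f.tgt.symm), by rw [cmp_os, f.src], by rw [cmp_ot, g.tgt]⟩

/-- The inverse arrow. -/
def Arr.inv (f : Arr x y) : Arr y x :=
  ⟨f.val ≫ oi G, by rw [Category.assoc, oi_os, f.tgt], by rw [Category.assoc, oi_ot, f.src]⟩

/-- An arrow precomposed with a morphism. -/
def Arr.comp (d : T' ⟶ T) (f : Arr x y) : Arr (d ≫ x) (d ≫ y) :=
  ⟨d ≫ f.val, by rw [Category.assoc, f.src], by rw [Category.assoc, f.tgt]⟩

@[simp] theorem Arr.id_then (f : Arr x y) : (Arr.id x).then f = f :=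
  Arr.ext (cmp_id_right f.val x f.src)

@[simp] theorem Arr.then_id (f : Arr x y) : f.then (Arr.id y) = f :=
  Arr.ext (cmp_id_left f.val y f.tgt)

@[simp] theorem Arr.then_assoc (f : Arr x y) (g : Arr y z) (h : Arr z w) :
    (f.then g).then h = f.then (g.then h) :=
  Arr.ext (cmp_assoc h.val g.val f.val (h.src.trans g.tgt.symm) (g.src.trans f.tgt.symm)).symm

@[simp] theorem Arr.then_inv (f : Arr x y) : f.then f.inv = Arr.id x :=
  Arr.ext ((oi_cmp f.val).trans (by rw [← Category.assoc, f.src]; rfl))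

@[simp] theorem Arr.inv_then (f : Arr x y) : f.inv.then f = Arr.id y :=
  Arr.ext ((cmp_oi f.val).trans (by rw [← Category.assoc, f.tgt]; rfl))

@[simp] theorem Arr.then_inv_assoc (f : Arr x y) (g : Arr x z) : f.then (f.inv.then g) = g := by
  rw [← Arr.then_assoc, Arr.then_inv, Arr.id_then]

@[simp] theorem Arr.inv_then_assoc (f : Arr x y) (g : Arr y z) : f.inv.then (f.then g) = g := by
  rw [← Arr.then_assoc, Arr.inv_then, Arr.id_then]

theorem Arr.comp_then (d : T' ⟶ T) (f : Arr x y) (g : Arr y z) :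
    (f.then g).comp d = (f.comp d).then (g.comp d) :=
  Arr.ext (comp_cmp d g.val f.val (g.src.trans f.tgt.symm))

theorem Arr.comp_id (d : T' ⟶ T) : (Arr.id x).comp d = Arr.id (d ≫ x) :=
  Arr.ext (Category.assoc _ _ _).symm

theorem Arr.inv_eq (f : Arr x y) (g : Arr y x) (h : f.then g = Arr.id x) : f.inv = g := by
  calc f.inv = f.inv.then (f.then g) := by rw [h, Arr.then_id]
    _ = g := by rw [← Arr.then_assoc, Arr.inv_then, Arr.id_then]

variable (G) in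
/-- A subgroupoid with a quotient of objects. -/
structure Sub where
  /-- its arrows -/
  P : Over S
  /-- the inclusion -/
  ι : P ⟶ oR G
  /-- the quotient -/
  M : Over S
  /-- the quotient map -/
  po : oU G ⟶ M
  sq : IsPullback (ι ≫ ot G) (ι ≫ os G) po po
  one : ∀ (T : Over S) (x : T ⟶ oU G), ∃ l : T ⟶ P, l ≫ ι = x ≫ oe G
  mul : ∀ (T : Over S) (a b : T ⟶ P) (h : (a ≫ ι) ≫ os G = (b ≫ ι) ≫ ot G),
    ∃ l : T ⟶ P, l ≫ ι = cmp (a ≫ ι) (b ≫ ι) h

variable (D : Sub G)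

/-- The arrow of the subgroupoid between equivalent points. -/
def Sub.A (x y : T ⟶ oU G) (h : x ≫ D.po = y ≫ D.po) : Arr x y :=
  ⟨D.sq.lift y x h.symm ≫ D.ι, (Category.assoc _ _ _).trans (D.sq.lift_snd _ _ _),
    (Category.assoc _ _ _).trans (D.sq.lift_fst _ _ _)⟩

theorem Sub.A_eq {x y : T ⟶ oU G} (h : x ≫ D.po = y ≫ D.po) (f : Arr x y) (l : T ⟶ D.P)
    (hl : l ≫ D.ι = f.val) : D.A x y h = f := by
  refine Arr.ext ?_
  rw [← hl]
  refine congrArg (· ≫ D.ι) (D.sq.hom_ext ?_ ?_)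
  · rw [D.sq.lift_fst, reassoc_of% hl, f.tgt]
  · rw [D.sq.lift_snd, reassoc_of% hl, f.src]

@[simp] theorem Sub.A_self (x : T ⟶ oU G) (h : x ≫ D.po = x ≫ D.po) : D.A x x h = Arr.id x := by
  obtain ⟨l, hl⟩ := D.one T x
  exact D.A_eq h _ l hl

@[simp] theorem Sub.A_then (x y z : T ⟶ oU G) (h : x ≫ D.po = y ≫ D.po) (h' : y ≫ D.po = z ≫ D.po) :
    (D.A x y h).then (D.A y z h') = D.A x z (h.trans h') := by
  obtain ⟨l, hl⟩ := D.mul T _ _ ((D.A y z h').src.trans (D.A x y h).tgt.symm)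
  exact (D.A_eq _ _ l hl).symm

@[simp] theorem Sub.A_then_assoc (x y z : T ⟶ oU G) {w : T ⟶ oU G} (h : x ≫ D.po = y ≫ D.po)
    (h' : y ≫ D.po = z ≫ D.po) (f : Arr z w) :
    (D.A x y h).then ((D.A y z h').then f) = (D.A x z (h.trans h')).then f := by
  rw [← Arr.then_assoc, D.A_then]

theorem Sub.A_comp (d : T' ⟶ T) (x y : T ⟶ oU G) (h : x ≫ D.po = y ≫ D.po) :
    (D.A x y h).comp d =
      D.A (d ≫ x) (d ≫ y) (by rw [Category.assoc, h, Category.assoc]) :=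
  (D.A_eq _ _ (d ≫ D.sq.lift y x h.symm) (Category.assoc _ _ _)).symm

/-- Transport of an arrow to equivalent ends. -/
def Sub.tr (r : T ⟶ oR G) (y x : T ⟶ oU G) (hy : y ≫ D.po = (r ≫ os G) ≫ D.po)
    (hx : x ≫ D.po = (r ≫ ot G) ≫ D.po) : Arr y x :=
  (D.A y (r ≫ os G) hy).then ((arr r).then (D.A (r ≫ ot G) x hx.symm))

theorem Sub.tr_val (f : Arr x y) (a b : T ⟶ oU G) (ha : a ≫ D.po = (f.val ≫ os G) ≫ D.po)
    (hb : b ≫ D.po = (f.val ≫ ot G) ≫ D.po) :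
    D.tr f.val a b ha hb =
      (D.A a x (ha.trans (congrArg (· ≫ D.po) f.src))).then
        (f.then (D.A y b (hb.trans (congrArg (· ≫ D.po) f.tgt)).symm)) := by
  obtain ⟨r, rfl, rfl⟩ := f
  rfl

theorem Sub.tr_self (r : T ⟶ oR G) : (D.tr r (r ≫ os G) (r ≫ ot G) rfl rfl).val = r := by
  simp [Sub.tr, arr]

theorem Sub.tr_comp (d : T' ⟶ T) (r : T ⟶ oR G) (y x : T ⟶ oU G) (hy : y ≫ D.po = (r ≫ os G) ≫ D.po)
    (hx : x ≫ D.po = (r ≫ ot G) ≫ D.po) :
    (D.tr r y x hy hx).comp d = D.tr (d ≫ r) (d ≫ y) (d ≫ x)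
      (by simp only [Category.assoc] at hy ⊢; rw [hy]) (by simp only [Category.assoc] at hx ⊢; rw [hx]) := by
  rw [Sub.tr, Arr.comp_then, Arr.comp_then, D.A_comp, D.A_comp]
  exact (D.tr_val ((arr r).comp d) _ _ _ _).symm

/-- Two arrows are equivalent. -/
def Sub.Rel (r r' : T ⟶ oR G) : Prop :=
  ∃ (hy : (r' ≫ os G) ≫ D.po = (r ≫ os G) ≫ D.po) (hx : (r' ≫ ot G) ≫ D.po = (r ≫ ot G) ≫ D.po),
    (D.tr r (r' ≫ os G) (r' ≫ ot G) hy hx).val = r'

theorem Sub.rel_val (f : Arr x y) (g : Arr z w) : D.Rel f.val g.val ↔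
    ∃ (hy : z ≫ D.po = x ≫ D.po) (hx : w ≫ D.po = y ≫ D.po),
      g = (D.A z x hy).then (f.then (D.A y w hx.symm)) := by
  obtain ⟨r, rfl, rfl⟩ := f
  obtain ⟨r', rfl, rfl⟩ := g
  exact exists_congr fun hy => exists_congr fun hx => ⟨fun h => Arr.ext h.symm, fun h => (congrArg Arr.val h).symm⟩

theorem Sub.rel_tr (r : T ⟶ oR G) (y x : T ⟶ oU G) (hy : y ≫ D.po = (r ≫ os G) ≫ D.po)
    (hx : x ≫ D.po = (r ≫ ot G) ≫ D.po) : D.Rel r (D.tr r y x hy hx).val :=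
  (D.rel_val (arr r) (D.tr r y x hy hx)).mpr ⟨hy, hx, rfl⟩

theorem Sub.rel_equivalence (T : Over S) : Equivalence (D.Rel (T := T)) := by
  refine ⟨fun r => ⟨rfl, rfl, D.tr_self r⟩, fun {r r'} h => ?_, fun {r r' r''} h h' => ?_⟩
  · obtain ⟨hy, hx, e⟩ := (D.rel_val (arr r) (arr r')).mp h
    refine (D.rel_val (arr r') (arr r)).mpr ⟨hy.symm, hx.symm, ?_⟩
    rw [e]; simp
  · obtain ⟨hy, hx, e⟩ := (D.rel_val (arr r) (arr r')).mp h
    obtain ⟨hy', hx', e'⟩ := (D.rel_val (arr r') (arr r'')).mp h'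
    refine (D.rel_val (arr r) (arr r'')).mpr ⟨hy'.trans hy, hx'.trans hx, ?_⟩
    rw [e', e]; simp

theorem Sub.rel_eq {r r' : T ⟶ oR G} (h : D.Rel r r') (hs : r ≫ os G = r' ≫ os G)
    (ht : r ≫ ot G = r' ≫ ot G) : r = r' := by
  obtain ⟨_, _, e⟩ := (D.rel_val (arr r) (⟨r', hs.symm, ht.symm⟩ : Arr (r ≫ os G) (r ≫ ot G))).mp h
  have := congrArg Arr.val e
  simpa [arr] using this.symm

theorem Sub.rel_comp (d : T' ⟶ T) {r r' : T ⟶ oR G} (h : D.Rel r r') : D.Rel (d ≫ r) (d ≫ r') := by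
  obtain ⟨hy, hx, e⟩ := (D.rel_val (arr r) (arr r')).mp h
  refine (D.rel_val ((arr r).comp d) ((arr r').comp d)).mpr
    ⟨by rw [Category.assoc d, Category.assoc d, hy], by rw [Category.assoc d, Category.assoc d, hx], ?_⟩
  rw [e, Arr.comp_then, Arr.comp_then, D.A_comp, D.A_comp]

theorem Sub.rel_inv {r r' : T ⟶ oR G} (h : D.Rel r r') : D.Rel (r ≫ oi G) (r' ≫ oi G) := by
  obtain ⟨hy, hx, e⟩ := (D.rel_val (arr r) (arr r')).mp h
  refine (D.rel_val (arr r).inv (arr r').inv).mpr ⟨hx, hy, Arr.inv_eq _ _ ?_⟩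
  rw [e]; simp

theorem Sub.rel_one {x y : T ⟶ oU G} (h : x ≫ D.po = y ≫ D.po) : D.Rel (x ≫ oe G) (y ≫ oe G) :=
  (D.rel_val (Arr.id x) (Arr.id y)).mpr ⟨h.symm, h.symm, by simp⟩

/-- Composition of arrows with equivalent inner ends. -/
def Sub.comb (a b : T ⟶ oR G) (h : (a ≫ os G) ≫ D.po = (b ≫ ot G) ≫ D.po) : Arr (b ≫ os G) (a ≫ ot G) :=
  (arr b).then ((D.A (b ≫ ot G) (a ≫ os G) h.symm).then (arr a))

theorem Sub.comb_val (f : Arr z w) (g : Arr x y) (h : (g.val ≫ os G) ≫ D.po = (f.val ≫ ot G) ≫ D.po) :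
    (D.comb g.val f.val h).val = (f.then ((D.A w x (by
      rw [← f.tgt, ← g.src]; exact h.symm)).then g)).val := by
  obtain ⟨r, rfl, rfl⟩ := f
  obtain ⟨r', rfl, rfl⟩ := g
  rfl

theorem Sub.rel_comb {a a' b b' : T ⟶ oR G} (ha : D.Rel a a') (hb : D.Rel b b')
    (h : (a ≫ os G) ≫ D.po = (b ≫ ot G) ≫ D.po) (h' : (a' ≫ os G) ≫ D.po = (b' ≫ ot G) ≫ D.po) :
    D.Rel (D.comb a b h).val (D.comb a' b' h').val := by
  obtain ⟨hy, hx, ea⟩ := (D.rel_val (arr a) (arr a')).mp ha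
  obtain ⟨hy', hx', eb⟩ := (D.rel_val (arr b) (arr b')).mp hb
  refine (D.rel_val (D.comb a b h) (D.comb a' b' h')).mpr ⟨hy', hx, ?_⟩
  rw [Sub.comb, Sub.comb, ea, eb]
  simp

theorem Sub.comb_comp (d : T' ⟶ T) (a b : T ⟶ oR G) (h : (a ≫ os G) ≫ D.po = (b ≫ ot G) ≫ D.po) :
    d ≫ (D.comb a b h).val = (D.comb (d ≫ a) (d ≫ b)
      (by simp only [Category.assoc] at h ⊢; rw [h])).val := by
  refine Eq.trans ?_ (D.comb_val ((arr b).comp d) ((arr a).comp d) _).symm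
  show ((D.comb a b h).comp d).val = _
  rw [Sub.comb, Arr.comp_then, Arr.comp_then, D.A_comp]

theorem Sub.comb_congr {a a' b b' : T ⟶ oR G} (ha : a = a') (hb : b = b')
    (h : (a ≫ os G) ≫ D.po = (b ≫ ot G) ≫ D.po) :
    (D.comb a b h).val = (D.comb a' b' (ha ▸ hb ▸ h)).val := by subst ha; subst hb; rfl

theorem Sub.comb_self (a b : T ⟶ oR G) (h : a ≫ os G = b ≫ ot G) :
    (D.comb a b (congrArg (· ≫ D.po) h)).val = cmp a b h := by
  have := D.comb_val (arr b) (⟨a, h, rfl⟩ : Arr (b ≫ ot G) (a ≫ ot G)) (congrArg (· ≫ D.po) h)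
  refine this.trans ?_
  rw [D.A_self, Arr.id_then]
  rfl

theorem Sub.comb_assoc (a b d : T ⟶ oR G) (h : (a ≫ os G) ≫ D.po = (b ≫ ot G) ≫ D.po)
    (h' : (b ≫ os G) ≫ D.po = (d ≫ ot G) ≫ D.po) :
    (D.comb (D.comb a b h).val d (by rw [(D.comb a b h).src]; exact h')).val =
      (D.comb a (D.comb b d h').val (by rw [(D.comb b d h').tgt]; exact h)).val := by
  refine (D.comb_val (arr d) (D.comb a b h) _).trans (Eq.trans ?_ (D.comb_val (D.comb b d h') (arr a) _).symm)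
  simp [Sub.comb]

end Groth.Agent.QuotGrpd
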