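import Mathlib
import Groth.Agent.QuotGrpdLib.Pts
import Groth.Agent.QuotRepLib.Rel
import Groth.Agent.AlgSpLib.SepLqfScheme
import Groth.Agent.AlgSpLib.RepDescent

/-!
# The arrows of the quotient groupoid
-/

set_option autoImplicit false
set_option backward.isDefEq.respectTransparency false
set_option maxHeartbeats 1600000

universe u

open CategoryTheory CategoryTheory.Limits AlgebraicGeometry Opposite
open AlgSp AlgSpLib Groth.Agent.QuotRep

noncomputable section

namespace Groth.Agent.QuotGrpd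

open Split

variable {S : Scheme.{u}} {G : Grpd.GroupoidScheme S}

variable (G) in
/-- Pairs of objects. -/
abbrev UU : Over S := Over.mk (pullback.fst G.pU G.pU ≫ G.pU)

variable (G) in
/-- The first object. -/
def u1 : UU G ⟶ oU G := Over.homMk (pullback.fst G.pU G.pU) rfl

variable (G) in
/-- The second object. -/
def u2 : UU G ⟶ oU G := Over.homMk (pullback.snd G.pU G.pU) pullback.condition.symm

variable (G) in
/-- Target and source. -/
def oj : oR G ⟶ UU G := Over.homMk G.j (by
  show G.j ≫ pullback.fst G.pU G.pU ≫ G.pU = G.pR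
  simp [Grpd.GroupoidScheme.j, G.t_over])

theorem oj_u1 : oj G ≫ u1 G = ot G := Over.OverMorphism.ext (by simp [oj, u1, Grpd.GroupoidScheme.j, ot])

theorem oj_u2 : oj G ≫ u2 G = os G := Over.OverMorphism.ext (by simp [oj, u2, Grpd.GroupoidScheme.j, os])

variable (D : Sub G)

/-- Pairs of classes. -/
abbrev MM : Over S := Over.mk (pullback.fst D.M.hom D.M.hom ≫ D.M.hom)

/-- The first class. -/
def v1 : MM D ⟶ D.M := Over.homMk (pullback.fst D.M.hom D.M.hom) rfl

/-- The second class. -/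
def v2 : MM D ⟶ D.M := Over.homMk (pullback.snd D.M.hom D.M.hom) pullback.condition.symm

/-- The quotient map on pairs. -/
def pp : UU G ⟶ MM D := Over.homMk
  (pullback.map G.pU G.pU D.M.hom D.M.hom D.po.left D.po.left (𝟙 S)
    (by rw [Category.comp_id]; exact (Over.w D.po).symm) (by rw [Category.comp_id]; exact (Over.w D.po).symm)) (by
  show pullback.map _ _ _ _ _ _ _ _ _ ≫ pullback.fst D.M.hom D.M.hom ≫ D.M.hom = pullback.fst G.pU G.pU ≫ G.pU
  rw [pullback.lift_fst_assoc, Category.assoc]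
  exact congrArg (_ ≫ ·) (Over.w D.po))

theorem pp_v1 : pp D ≫ v1 D = u1 G ≫ D.po := Over.OverMorphism.ext (by simp [pp, v1, u1])

theorem pp_v2 : pp D ≫ v2 D = u2 G ≫ D.po := Over.OverMorphism.ext (by simp [pp, v2, u2])

theorem MM_hom_ext {T : Over S} {a b : T ⟶ MM D} (h₁ : a ≫ v1 D = b ≫ v1 D) (h₂ : a ≫ v2 D = b ≫ v2 D) :
    a = b :=
  Over.OverMorphism.ext (pullback.hom_ext (congrArg Over.Hom.left h₁) (congrArg Over.Hom.left h₂))

theorem UU_hom_ext {T : Over S} {a b : T ⟶ UU G} (h₁ : a ≫ u1 G = b ≫ u1 G) (h₂ : a ≫ u2 G = b ≫ u2 G) :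
    a = b :=
  Over.OverMorphism.ext (pullback.hom_ext (congrArg Over.Hom.left h₁) (congrArg Over.Hom.left h₂))

theorem pp_eq_iff {T : Over S} (r : T ⟶ oR G) (y : T ⟶ UU G) :
    r ≫ oj G ≫ pp D = y ≫ pp D ↔
      (y ≫ u1 G) ≫ D.po = (r ≫ ot G) ≫ D.po ∧ (y ≫ u2 G) ≫ D.po = (r ≫ os G) ≫ D.po := by
  constructor
  · intro h
    constructor
    · have := congrArg (· ≫ v1 D) h
      simp only [Category.assoc, pp_v1, reassoc_of% (oj_u1 (G := G))] at this ⊢
      exact this.symm
    · have := congrArg (· ≫ v2 D) h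
      simp only [Category.assoc, pp_v2, reassoc_of% (oj_u2 (G := G))] at this ⊢
      exact this.symm
  · rintro ⟨h1, h2⟩
    apply MM_hom_ext
    · simp only [Category.assoc, pp_v1, reassoc_of% (oj_u1 (G := G))] at h1 ⊢
      exact h1.symm
    · simp only [Category.assoc, pp_v2, reassoc_of% (oj_u2 (G := G))] at h2 ⊢
      exact h2.symm

theorem fppf_pp [Flat D.po.left] [LocallyOfFinitePresentation D.po.left] [Surjective D.po.left] :
    Flat (pp D).left ∧ LocallyOfFinitePresentation (pp D).left ∧ Surjective (pp D).left :=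
  ⟨MorphismProperty.pullbackMap (P := @Flat) ‹Flat D.po.left› ‹Flat D.po.left› (Over.w D.po).symm (Over.w D.po).symm,
    MorphismProperty.pullbackMap (P := @LocallyOfFinitePresentation) ‹LocallyOfFinitePresentation D.po.left›
      ‹LocallyOfFinitePresentation D.po.left› (Over.w D.po).symm (Over.w D.po).symm,
    MorphismProperty.pullbackMap (P := @Surjective) ‹Surjective D.po.left› ‹Surjective D.po.left›
      (Over.w D.po).symm (Over.w D.po).symm⟩

theorem exists_rbar [Flat D.po.left] [LocallyOfFinitePresentation D.po.left] [Surjective D.po.left]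
    [IsSeparated G.j] [LocallyQuasiFinite G.j] [LocallyOfFiniteType G.j] :
    ∃ (Rb : Over S) (qo : oR G ⟶ Rb) (jb : Rb ⟶ MM D), IsPullback qo (oj G) jb (pp D) ∧
      ∀ (T : Over S) (a b : T ⟶ oR G), a ≫ qo = b ≫ qo ↔ D.Rel a b := by
  obtain ⟨_, _, _⟩ := fppf_pp D
  let E : Over S := Over.mk (pullback.fst (oj G ≫ pp D).left (pp D).left ≫ G.pR)
  let e1 : E ⟶ oR G := Over.homMk (pullback.fst (oj G ≫ pp D).left (pp D).left) rfl
  let e2 : E ⟶ UU G := Over.homMk (pullback.snd (oj G ≫ pp D).left (pp D).left) (by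
    show pullback.snd _ _ ≫ (UU G).hom = pullback.fst _ _ ≫ (oR G).hom
    rw [← Over.w (oj G ≫ pp D), ← Over.w (pp D), pullback.condition_assoc])
  have sqE : IsPullback e1 e2 (oj G ≫ pp D) (pp D) :=
    isPullback_over (IsPullback.of_hasPullback (oj G ≫ pp D).left (pp D).left)
  obtain ⟨he1, he2⟩ := (pp_eq_iff D e1 e2).mp sqE.w
  let act : E ⟶ oR G := (D.tr e1 (e2 ≫ u2 G) (e2 ≫ u1 G) he2 he1).val
  have hact : ∀ {T : Over S} (l : T ⟶ E),
      (l ≫ act) ≫ os G = l ≫ e2 ≫ u2 G ∧ (l ≫ act) ≫ ot G = l ≫ e2 ≫ u1 G := fun l =>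
    ⟨by rw [Category.assoc, (D.tr _ _ _ _ _).src], by rw [Category.assoc, (D.tr _ _ _ _ _).tgt]⟩
  have hrel : ∀ (T : Over S) (a b : T ⟶ oR G), (∃ l : T ⟶ E, l ≫ act = a ∧ l ≫ e1 = b) ↔ D.Rel b a := by
    refine fun T a b => ⟨fun ⟨l, h1, h2⟩ => ?_, fun h => ?_⟩
    · rw [← h1, ← h2]
      exact D.rel_comp l (D.rel_tr _ _ _ _ _)
    · obtain ⟨hy, hx, e⟩ := id h
      let y : T ⟶ UU G := a ≫ oj G
      have hy1 : y ≫ u1 G = a ≫ ot G := by rw [Category.assoc, oj_u1]
      have hy2 : y ≫ u2 G = a ≫ os G := by rw [Category.assoc, oj_u2]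
      let l := sqE.lift b y ((pp_eq_iff D b y).mpr ⟨by rw [hy1]; exact hx, by rw [hy2]; exact hy⟩)
      have hl1 : l ≫ e1 = b := sqE.lift_fst _ _ _
      have hl2 : l ≫ e2 = y := sqE.lift_snd _ _ _
      refine ⟨l, D.rel_eq ((D.rel_equivalence T).trans ((D.rel_equivalence T).symm
        (D.rel_comp l (D.rel_tr _ _ _ _ _))) (hl1 ▸ h)) ?_ ?_, hl1⟩
      · rw [(hact l).1, reassoc_of% hl2, hy2]
      · rw [(hact l).2, reassoc_of% hl2, hy1]
  have hE : IsEqvRel e1 act :=
    { injective := fun T l l' h1 h2 => sqE.hom_ext h2 (UU_hom_ext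
        (by rw [Category.assoc, Category.assoc, ← (hact l).2, ← (hact l').2, h1])
        (by rw [Category.assoc, Category.assoc, ← (hact l).1, ← (hact l').1, h1]))
      equivalence := fun T => by
        have e : (fun a b : T ⟶ oR G => ∃ l : T ⟶ E, l ≫ act = a ∧ l ≫ e1 = b) = fun a b => D.Rel b a :=
          funext fun a => funext fun b => propext (hrel T a b)
        rw [e]
        exact ⟨fun a => (D.rel_equivalence T).refl a, fun h => (D.rel_equivalence T).symm h,
          fun h h' => (D.rel_equivalence T).trans h' h⟩ }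
  let qR := qπ e1 act
  have hq : ∀ (T : Over S) (a b : T ⟶ oR G), (yon S).map a ≫ qR = (yon S).map b ≫ qR ↔ D.Rel a b :=
    fun T a b => ((map_π_eq_iff hE a b).trans (hrel T a b)).trans
      ⟨(D.rel_equivalence T).symm, (D.rel_equivalence T).symm⟩
  obtain ⟨f, hf⟩ := exists_desc qR ((yon S).map (oj G ≫ pp D)) fun T b b' h => by
    obtain ⟨b, rfl⟩ := (yon S).map_surjective b
    obtain ⟨b', rfl⟩ := (yon S).map_surjective b'
    obtain ⟨hy, hx, -⟩ := (hq T b b').mp h
    rw [← Functor.map_comp, ← Functor.map_comp]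
    refine congrArg _ ?_
    rw [(pp_eq_iff D b (b' ≫ oj G)).mpr ⟨by rw [Category.assoc b' (oj G), oj_u1]; exact hx,
      by rw [Category.assoc b' (oj G), oj_u2]; exact hy⟩, Category.assoc]
  have sq : IsPullback qR ((yon S).map (oj G)) f ((yon S).map (pp D)) := by
    refine isPullback_of_forall_existsUnique (by rw [hf, Functor.map_comp]) fun T a b hab => ?_
    obtain ⟨b, rfl⟩ := (yon S).map_surjective b
    obtain ⟨T', q, r₀, hq₁, hq₂, hq₃, hr₀⟩ := exists_single_lift qR a
    obtain ⟨r₀, rfl⟩ := (yon S).map_surjective r₀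
    haveI := epi_map_of_fppf q
    haveI := isLocallySurjective_yon_map q
    have h0 : r₀ ≫ oj G ≫ pp D = (q ≫ b) ≫ pp D := (yon S).map_injective (by
      have hfm : (yon S).map (oj G) ≫ (yon S).map (pp D) = qR ≫ f := by rw [hf, Functor.map_comp]
      simp only [Functor.map_comp, Category.assoc, hfm]
      rw [reassoc_of% hr₀, hab])
    obtain ⟨h1, h2⟩ := (pp_eq_iff D _ _).mp h0
    let n := D.tr r₀ ((q ≫ b) ≫ u2 G) ((q ≫ b) ≫ u1 G) h2 h1
    have hn : (yon S).map n.val ≫ qR = (yon S).map q ≫ a := by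
      rw [← hr₀]; exact (hq T' _ _).mpr ((D.rel_equivalence T').symm (D.rel_tr _ _ _ _ _))
    obtain ⟨nb, hnb⟩ := exists_desc ((yon S).map q) ((yon S).map n.val) fun W c c' h => by
      obtain ⟨c, rfl⟩ := (yon S).map_surjective c
      obtain ⟨c', rfl⟩ := (yon S).map_surjective c'
      have hc : c ≫ q = c' ≫ q := (yon S).map_injective (by simpa only [Functor.map_comp] using h)
      rw [← Functor.map_comp, ← Functor.map_comp]
      refine congrArg _ (D.rel_eq ((hq W _ _).mp ?_) ?_ ?_)
      · rw [Functor.map_comp_assoc, Functor.map_comp_assoc, hn, ← Functor.map_comp_assoc, hc,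
          Functor.map_comp_assoc]
      · simp only [Category.assoc, n.src]; rw [reassoc_of% hc]
      · simp only [Category.assoc, n.tgt]; rw [reassoc_of% hc]
    obtain ⟨nb, rfl⟩ := (yon S).map_surjective nb
    have hnb' : q ≫ nb = n.val := (yon S).map_injective (by rw [Functor.map_comp, hnb])
    have e1' : (yon S).map nb ≫ qR = a := by
      rw [← cancel_epi ((yon S).map q), ← Category.assoc, hnb, hn]
    have e2' : nb ≫ oj G = b := by
      apply (yon S).map_injective
      rw [← cancel_epi ((yon S).map q), ← Functor.map_comp, ← Functor.map_comp]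
      refine congrArg _ (UU_hom_ext ?_ ?_)
      · rw [Category.assoc, Category.assoc, oj_u1, reassoc_of% hnb', n.tgt]
      · rw [Category.assoc, Category.assoc, oj_u2, reassoc_of% hnb', n.src]
    refine ⟨(yon S).map nb, ⟨e1', by rw [← Functor.map_comp, e2']⟩, fun l hl => ?_⟩
    obtain ⟨l, rfl⟩ := (yon S).map_surjective l
    have hl2 : l ≫ oj G = nb ≫ oj G := by
      rw [e2']; exact (yon S).map_injective (by rw [Functor.map_comp]; exact hl.2)
    refine congrArg _ (D.rel_eq ((hq T l nb).mp (hl.1.trans e1'.symm)) ?_ ?_)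
    · rw [← oj_u2, ← Category.assoc, hl2, Category.assoc]
    · rw [← oj_u1, ← Category.assoc, hl2, Category.assoc]
  haveI := isLocallySurjective_yon_map (pp D)
  have hrep : Representable f := representable_of_cover isEffClass_sepLqf sq
    ((repWith_yon_map_iff _ _).2
      ⟨(inferInstance : IsSeparated G.j), (inferInstance : LocallyQuasiFinite G.j),
        (inferInstance : LocallyOfFiniteType G.j)⟩)
  let ξ : (yon S).obj (MM D) ⟶ (yon S).obj (MM D) := 𝟙 _
  have sqW := hrep.isPullback ξ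
  haveI : IsIso (hrep.fst ξ) := sqW.isIso_fst_of_isIso
  obtain ⟨qo, hqo⟩ := (yon S).map_surjective (qR ≫ inv (hrep.fst ξ))
  have hqo' : (yon S).map qo ≫ hrep.fst ξ = qR := by rw [hqo, Category.assoc, IsIso.inv_hom_id, Category.comp_id]
  have hjb : (yon S).map (hrep.snd ξ) = hrep.fst ξ ≫ f := by
    have := sqW.w
    simpa [ξ] using this.symm
  refine ⟨_, qo, hrep.snd ξ, ?_, fun T a b => ?_⟩
  · have sq' : IsPullback ((yon S).map qo) ((yon S).map (oj G)) ((yon S).map (hrep.snd ξ))
        ((yon S).map (pp D)) := by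
      refine sq.of_iso (Iso.refl _) (asIso (hrep.fst ξ)).symm (Iso.refl _) (Iso.refl _)
        (by simp [hqo]) (by simp) ?_ (by simp)
      simp [hjb]
    exact IsPullback.of_map (yon S) ((yon S).map_injective (by
      rw [Functor.map_comp, Functor.map_comp]; exact sq'.w)) sq'
  · rw [← hq T a b, ← hqo', ← Functor.map_comp_assoc, ← Functor.map_comp_assoc,
      cancel_mono (hrep.fst ξ)]
    exact ⟨congrArg _, fun h => (yon S).map_injective h⟩

end Groth.Agent.QuotGrpd
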