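import Mathlib
import Groth.Agent.QuotGrpdLib.Rbar

/-!
# The operations of the quotient groupoid
-/

set_option autoImplicit false
set_option backward.isDefEq.respectTransparency false
set_option maxHeartbeats 1600000

universe u

open CategoryTheory CategoryTheory.Limits AlgebraicGeometry Opposite
open AlgSp AlgSpLib Groth.Agent.QuotRep

noncomputable section

namespace Groth.Agent.QuotGrpd

open Split

variable {S : Scheme.{u}} {G : Grpd.GroupoidScheme S}

theorem exists_hom_desc {T T' X : Over S} (q : T' ⟶ T) [Flat q.left] [LocallyOfFinitePresentation q.left]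
    [Surjective q.left] (x : T' ⟶ X) (h : ∀ (W : Over S) (a b : W ⟶ T'), a ≫ q = b ≫ q → a ≫ x = b ≫ x) :
    ∃ y : T ⟶ X, q ≫ y = x := by
  haveI := isLocallySurjective_yon_map q
  obtain ⟨y, hy⟩ := exists_desc ((yon S).map q) ((yon S).map x) fun W a b e => by
    obtain ⟨a, rfl⟩ := (yon S).map_surjective a
    obtain ⟨b, rfl⟩ := (yon S).map_surjective b
    rw [← Functor.map_comp, ← Functor.map_comp] at e ⊢
    exact congrArg _ (h W a b ((yon S).map_injective e))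
  obtain ⟨y, rfl⟩ := (yon S).map_surjective y
  exact ⟨y, (yon S).map_injective (by rw [Functor.map_comp, hy])⟩

theorem hom_cancel {T T' X : Over S} (q : T' ⟶ T) [Flat q.left] [Surjective q.left] {x y : T ⟶ X}
    (h : q ≫ x = q ≫ y) : x = y := by
  haveI := Flat.epi_of_flat_of_surjective q.left
  exact Over.OverMorphism.ext ((cancel_epi q.left).mp (congrArg Over.Hom.left h))

variable (D : Sub G)

/-- The quotient of the arrows. -/
structure RB where
  /-- the quotient -/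
  Rb : Over S
  /-- the quotient map -/
  qo : oR G ⟶ Rb
  /-- target and source -/
  jb : Rb ⟶ MM D
  sq : IsPullback qo (oj G) jb (pp D)
  rel : ∀ (T : Over S) (a b : T ⟶ oR G), a ≫ qo = b ≫ qo ↔ D.Rel a b
  flat : Flat qo.left
  lfp : LocallyOfFinitePresentation qo.left
  surj : Surjective qo.left

theorem exists_RB [Flat D.po.left] [LocallyOfFinitePresentation D.po.left] [Surjective D.po.left]
    [IsSeparated G.j] [LocallyQuasiFinite G.j] [LocallyOfFiniteType G.j] : Nonempty (RB D) := by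
  obtain ⟨Rb, qo, jb, sq, hq⟩ := exists_rbar D
  obtain ⟨h₁, h₂, h₃⟩ := fppf_pp D
  exact ⟨⟨Rb, qo, jb, sq, hq, MorphismProperty.of_isPullback (P := @Flat) (sq.map (Over.forget S)).flip h₁,
    MorphismProperty.of_isPullback (P := @LocallyOfFinitePresentation) (sq.map (Over.forget S)).flip h₂,
    MorphismProperty.of_isPullback (P := @Surjective) (sq.map (Over.forget S)).flip h₃⟩⟩

variable {D} (K : RB D)

instance : Flat K.qo.left := K.flat

instance : LocallyOfFinitePresentation K.qo.left := K.lfp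

instance : Surjective K.qo.left := K.surj

/-- Source. -/
def RB.s : K.Rb ⟶ D.M := K.jb ≫ v2 D

/-- Target. -/
def RB.t : K.Rb ⟶ D.M := K.jb ≫ v1 D

@[reassoc]
theorem RB.qo_s : K.qo ≫ K.s = os G ≫ D.po := by
  rw [RB.s, reassoc_of% K.sq.w, pp_v2, reassoc_of% (oj_u2 (G := G))]

@[reassoc]
theorem RB.qo_t : K.qo ≫ K.t = ot G ≫ D.po := by
  rw [RB.t, reassoc_of% K.sq.w, pp_v1, reassoc_of% (oj_u1 (G := G))]

theorem RB.exists_lift {T : Over S} (α : T ⟶ K.Rb) : ∃ (T' : Over S) (q : T' ⟶ T) (a : T' ⟶ oR G),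
    Flat q.left ∧ Surjective q.left ∧ a ≫ K.qo = q ≫ α :=
  ⟨Over.mk (pullback.fst α.left K.qo.left ≫ T.hom), Over.homMk (pullback.fst α.left K.qo.left) rfl,
    Over.homMk (pullback.snd α.left K.qo.left) (by
      show pullback.snd α.left K.qo.left ≫ (oR G).hom = pullback.fst α.left K.qo.left ≫ T.hom
      rw [← Over.w K.qo, ← pullback.condition_assoc, Over.w α]),
    inferInstanceAs (Flat (pullback.fst α.left K.qo.left)),
    inferInstanceAs (Surjective (pullback.fst α.left K.qo.left)),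
    Over.OverMorphism.ext pullback.condition.symm⟩

/-- The operations of the quotient groupoid. -/
structure RB.Ops where
  /-- identity -/
  e : D.M ⟶ K.Rb
  he : D.po ≫ e = oe G ≫ K.qo
  /-- inverse -/
  i : K.Rb ⟶ K.Rb
  hi : K.qo ≫ i = oi G ≫ K.qo
  /-- composition -/
  cc : ∀ {T : Over S} (α β : T ⟶ K.Rb), α ≫ K.s = β ≫ K.t → (T ⟶ K.Rb)
  cc_comb : ∀ {T : Over S} (a b : T ⟶ oR G) (h : (a ≫ K.qo) ≫ K.s = (b ≫ K.qo) ≫ K.t)
    (h' : (a ≫ os G) ≫ D.po = (b ≫ ot G) ≫ D.po), cc (a ≫ K.qo) (b ≫ K.qo) h = (D.comb a b h').val ≫ K.qo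
  cc_comp : ∀ {T T' : Over S} (d : T' ⟶ T) (α β : T ⟶ K.Rb) (h : α ≫ K.s = β ≫ K.t),
    d ≫ cc α β h = cc (d ≫ α) (d ≫ β) (by rw [Category.assoc, h, Category.assoc])
  /-- composition on the scheme of composable pairs -/
  c : pullback K.s.left K.t.left ⟶ K.Rb.left
  cc_left : ∀ {T : Over S} (α β : T ⟶ K.Rb) (h : α ≫ K.s = β ≫ K.t),
    (cc α β h).left = pullback.lift α.left β.left (congrArg Over.Hom.left h) ≫ c

theorem RB.exists_ops [Flat D.po.left] [LocallyOfFinitePresentation D.po.left] [Surjective D.po.left] :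
    Nonempty K.Ops := by
  obtain ⟨e, he⟩ := exists_hom_desc D.po (oe G ≫ K.qo) fun W a b h => by
    rw [← Category.assoc, ← Category.assoc, K.rel]
    exact D.rel_one h
  obtain ⟨i, hi⟩ := exists_hom_desc K.qo (oi G ≫ K.qo) fun W a b h => by
    rw [← Category.assoc, ← Category.assoc, K.rel]
    exact D.rel_inv ((K.rel W a b).mp h)
  let W : Over S := Over.mk (pullback.fst (os G ≫ D.po).left (ot G ≫ D.po).left ≫ G.pR)
  let w1 : W ⟶ oR G := Over.homMk (pullback.fst (os G ≫ D.po).left (ot G ≫ D.po).left) rfl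
  let w2 : W ⟶ oR G := Over.homMk (pullback.snd (os G ≫ D.po).left (ot G ≫ D.po).left) (by
    show pullback.snd _ _ ≫ (oR G).hom = pullback.fst _ _ ≫ (oR G).hom
    exact (congrArg (pullback.snd _ _ ≫ ·) (Over.w (ot G ≫ D.po))).symm.trans
      ((pullback.condition_assoc D.M.hom).symm.trans (congrArg (pullback.fst _ _ ≫ ·) (Over.w (os G ≫ D.po)))))
  let C : Over S := Over.mk (pullback.fst K.s.left K.t.left ≫ K.Rb.hom)
  let c1 : C ⟶ K.Rb := Over.homMk (pullback.fst K.s.left K.t.left) rfl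
  let c2 : C ⟶ K.Rb := Over.homMk (pullback.snd K.s.left K.t.left) (by
    show pullback.snd _ _ ≫ K.Rb.hom = pullback.fst _ _ ≫ K.Rb.hom
    exact (congrArg (pullback.snd _ _ ≫ ·) (Over.w K.t)).symm.trans
      ((pullback.condition_assoc D.M.hom).symm.trans (congrArg (pullback.fst _ _ ≫ ·) (Over.w K.s))))
  have sqC : IsPullback c1 c2 K.s K.t := isPullback_over (IsPullback.of_hasPullback K.s.left K.t.left)
  have hw : w1 ≫ os G ≫ D.po = w2 ≫ ot G ≫ D.po := Over.OverMorphism.ext pullback.condition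
  let m : W ⟶ C := sqC.lift (w1 ≫ K.qo) (w2 ≫ K.qo) (by rw [Category.assoc, Category.assoc, K.qo_s, K.qo_t, hw])
  have hm1 : m ≫ c1 = w1 ≫ K.qo := sqC.lift_fst _ _ _
  have hm2 : m ≫ c2 = w2 ≫ K.qo := sqC.lift_snd _ _ _
  have hml : m.left = pullback.map (os G ≫ D.po).left (ot G ≫ D.po).left K.s.left K.t.left K.qo.left K.qo.left
      (𝟙 D.M.left) (by rw [Category.comp_id]; exact (congrArg Over.Hom.left K.qo_s).symm)
      (by rw [Category.comp_id]; exact (congrArg Over.Hom.left K.qo_t).symm) := by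
    apply pullback.hom_ext
    · rw [pullback.lift_fst]; exact congrArg Over.Hom.left hm1
    · rw [pullback.lift_snd]; exact congrArg Over.Hom.left hm2
  haveI : Flat m.left := by
    rw [hml]
    exact MorphismProperty.pullbackMap (P := @Flat) K.flat K.flat (congrArg Over.Hom.left K.qo_s).symm
      (congrArg Over.Hom.left K.qo_t).symm
  haveI : LocallyOfFinitePresentation m.left := by
    rw [hml]
    exact MorphismProperty.pullbackMap (P := @LocallyOfFinitePresentation) K.lfp K.lfp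
      (congrArg Over.Hom.left K.qo_s).symm (congrArg Over.Hom.left K.qo_t).symm
  haveI : Surjective m.left := by
    rw [hml]
    exact MorphismProperty.pullbackMap (P := @Surjective) K.surj K.surj (congrArg Over.Hom.left K.qo_s).symm
      (congrArg Over.Hom.left K.qo_t).symm
  have hw' : (w1 ≫ os G) ≫ D.po = (w2 ≫ ot G) ≫ D.po := by simpa only [Category.assoc] using hw
  obtain ⟨cb, hcb⟩ := exists_hom_desc m ((D.comb w1 w2 hw').val ≫ K.qo) fun V a b h => by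
    rw [← Category.assoc, ← Category.assoc, K.rel, D.comb_comp, D.comb_comp]
    refine D.rel_comb ((K.rel V _ _).mp ?_) ((K.rel V _ _).mp ?_) _ _
    · have := congrArg (· ≫ c1) h
      simpa only [Category.assoc, hm1] using this
    · have := congrArg (· ≫ c2) h
      simpa only [Category.assoc, hm2] using this
  refine ⟨⟨e, he, i, hi, fun α β h => sqC.lift α β h ≫ cb, fun {T} a b h h' => ?_, fun d α β h => ?_,
    cb.left, fun α β h => ?_⟩⟩
  · let l : T ⟶ W := Over.homMk (pullback.lift a.left b.left (by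
      simpa only [Category.assoc, Over.comp_left] using congrArg Over.Hom.left h')) (by
        show pullback.lift _ _ _ ≫ pullback.fst _ _ ≫ (oR G).hom = T.hom
        rw [pullback.lift_fst_assoc, Over.w a])
    have hl1 : l ≫ w1 = a := Over.OverMorphism.ext (pullback.lift_fst _ _ _)
    have hl2 : l ≫ w2 = b := Over.OverMorphism.ext (pullback.lift_snd _ _ _)
    have hlm : l ≫ m = sqC.lift (a ≫ K.qo) (b ≫ K.qo) h := sqC.hom_ext
      (by rw [Category.assoc, hm1, sqC.lift_fst, reassoc_of% hl1])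
      (by rw [Category.assoc, hm2, sqC.lift_snd, reassoc_of% hl2])
    rw [← hlm, Category.assoc, hcb, ← Category.assoc, D.comb_comp]
    rw [D.comb_congr hl1 hl2]
  · rw [← Category.assoc]
    congr 1
    exact sqC.hom_ext (by simp) (by simp)
  · show (sqC.lift α β h).left ≫ cb.left = _
    congr 1
    apply pullback.hom_ext
    · rw [pullback.lift_fst]; exact congrArg Over.Hom.left (sqC.lift_fst α β h)
    · rw [pullback.lift_snd]; exact congrArg Over.Hom.left (sqC.lift_snd α β h)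

variable {K} (O : K.Ops) {T : Over S}

theorem RB.Ops.cc_congr {α α' β β' : T ⟶ K.Rb} (ha : α = α') (hb : β = β') (h : α ≫ K.s = β ≫ K.t) :
    O.cc α β h = O.cc α' β' (ha ▸ hb ▸ h) := by subst ha; subst hb; rfl

theorem RB.Ops.comb_cc {T' : Over S} (q : T' ⟶ T) {α β : T ⟶ K.Rb} (h : α ≫ K.s = β ≫ K.t)
    (a b : T' ⟶ oR G) (ha : a ≫ K.qo = q ≫ α) (hb : b ≫ K.qo = q ≫ β) :
    ∃ h' : (a ≫ os G) ≫ D.po = (b ≫ ot G) ≫ D.po, q ≫ O.cc α β h = (D.comb a b h').val ≫ K.qo := by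
  have h' : (a ≫ os G) ≫ D.po = (b ≫ ot G) ≫ D.po := by
    rw [Category.assoc, Category.assoc, ← K.qo_s, ← K.qo_t, reassoc_of% ha, reassoc_of% hb, h]
  refine ⟨h', ?_⟩
  rw [O.cc_comp, O.cc_congr ha.symm hb.symm]
  exact O.cc_comb a b _ h'

theorem RB.Ops.cc_ends {α β : T ⟶ K.Rb} (h : α ≫ K.s = β ≫ K.t) :
    O.cc α β h ≫ K.s = β ≫ K.s ∧ O.cc α β h ≫ K.t = α ≫ K.t := by
  obtain ⟨T₁, q₁, a, _, _, ha⟩ := K.exists_lift α
  obtain ⟨T₂, q₂, b, _, _, hb⟩ := K.exists_lift (q₁ ≫ β)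
  have ha' : (q₂ ≫ a) ≫ K.qo = (q₂ ≫ q₁) ≫ α := by rw [Category.assoc, ha, Category.assoc]
  have hb' : b ≫ K.qo = (q₂ ≫ q₁) ≫ β := by rw [hb, Category.assoc]
  obtain ⟨h', hc⟩ := O.comb_cc (q₂ ≫ q₁) h _ _ ha' hb'
  constructor <;> refine hom_cancel q₁ (hom_cancel q₂ ?_)
  · rw [reassoc_of% hc, ← reassoc_of% hb', K.qo_s,
      ← Category.assoc _ (os G), (D.comb _ _ h').src, Category.assoc]
  · rw [reassoc_of% hc, ← reassoc_of% ha', K.qo_t,
      ← Category.assoc _ (ot G), (D.comb _ _ h').tgt]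
    simp only [Category.assoc]

theorem RB.Ops.e_st [Flat D.po.left] [Surjective D.po.left] : O.e ≫ K.s = 𝟙 D.M ∧ O.e ≫ K.t = 𝟙 D.M :=
  ⟨hom_cancel D.po (by rw [reassoc_of% O.he, K.qo_s, oe_os_assoc, Category.comp_id]),
    hom_cancel D.po (by rw [reassoc_of% O.he, K.qo_t, oe_ot_assoc, Category.comp_id])⟩

theorem RB.Ops.i_st : O.i ≫ K.s = K.t ∧ O.i ≫ K.t = K.s :=
  ⟨hom_cancel K.qo (by rw [reassoc_of% O.hi, K.qo_s, K.qo_t, oi_os_assoc]),
    hom_cancel K.qo (by rw [reassoc_of% O.hi, K.qo_s, K.qo_t, oi_ot_assoc])⟩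

theorem RB.Ops.cc_assoc {α β δ : T ⟶ K.Rb} (h₁ : α ≫ K.s = β ≫ K.t) (h₂ : β ≫ K.s = δ ≫ K.t) :
    O.cc (O.cc α β h₁) δ ((O.cc_ends h₁).1.trans h₂) =
      O.cc α (O.cc β δ h₂) (h₁.trans (O.cc_ends h₂).2.symm) := by
  obtain ⟨T₁, q₁, a, _, _, ha⟩ := K.exists_lift α
  obtain ⟨T₂, q₂, b, _, _, hb⟩ := K.exists_lift (q₁ ≫ β)
  obtain ⟨T₃, q₃, d, _, _, hd⟩ := K.exists_lift (q₂ ≫ q₁ ≫ δ)
  have ha' : (q₃ ≫ q₂ ≫ a) ≫ K.qo = (q₃ ≫ q₂ ≫ q₁) ≫ α := by simp only [Category.assoc, ha]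
  have hb' : (q₃ ≫ b) ≫ K.qo = (q₃ ≫ q₂ ≫ q₁) ≫ β := by simp only [Category.assoc, hb]
  have hd' : d ≫ K.qo = (q₃ ≫ q₂ ≫ q₁) ≫ δ := by rw [hd]; simp only [Category.assoc]
  refine hom_cancel q₁ (hom_cancel q₂ (hom_cancel q₃ ?_))
  simp only [← Category.assoc]
  rw [show (q₃ ≫ q₂) ≫ q₁ = q₃ ≫ q₂ ≫ q₁ from Category.assoc _ _ _]
  obtain ⟨h12, e12⟩ := O.comb_cc _ h₁ _ _ ha' hb'
  obtain ⟨h23, e23⟩ := O.comb_cc _ h₂ _ _ hb' hd'
  obtain ⟨hl, el⟩ := O.comb_cc _ ((O.cc_ends h₁).1.trans h₂) _ _ e12.symm hd'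
  obtain ⟨hr, er⟩ := O.comb_cc _ (h₁.trans (O.cc_ends h₂).2.symm) _ _ ha' e23.symm
  rw [el, er, D.comb_assoc _ _ _ h12 h23]

theorem RB.Ops.cc_id [Flat D.po.left] [Surjective D.po.left] (α : T ⟶ K.Rb) :
    (∀ h, O.cc α (α ≫ K.s ≫ O.e) h = α) ∧ (∀ h, O.cc (α ≫ K.t ≫ O.e) α h = α) ∧
    (∀ h, O.cc α (α ≫ O.i) h = α ≫ K.t ≫ O.e) ∧ ∀ h, O.cc (α ≫ O.i) α h = α ≫ K.s ≫ O.e := by
  obtain ⟨T₁, q₁, a, _, _, ha⟩ := K.exists_lift α
  have hs : (a ≫ os G ≫ oe G) ≫ K.qo = q₁ ≫ α ≫ K.s ≫ O.e := by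
    rw [← reassoc_of% ha, K.qo_s_assoc, O.he]; simp only [Category.assoc]
  have ht : (a ≫ ot G ≫ oe G) ≫ K.qo = q₁ ≫ α ≫ K.t ≫ O.e := by
    rw [← reassoc_of% ha, K.qo_t_assoc, O.he]; simp only [Category.assoc]
  have hi : (a ≫ oi G) ≫ K.qo = q₁ ≫ α ≫ O.i := by
    rw [← reassoc_of% ha, O.hi, Category.assoc]
  refine ⟨fun h => hom_cancel q₁ ?_, fun h => hom_cancel q₁ ?_, fun h => hom_cancel q₁ ?_,
    fun h => hom_cancel q₁ ?_⟩
  · obtain ⟨_, e⟩ := O.comb_cc q₁ h _ _ ha hs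
    rw [e, D.comb_self a _ (by simp), Split.cmp_oe, ha]
  · obtain ⟨_, e⟩ := O.comb_cc q₁ h _ _ ht ha
    rw [e, D.comb_self _ a (by simp), Split.oe_cmp, ha]
  · obtain ⟨_, e⟩ := O.comb_cc q₁ h _ _ ha hi
    rw [e, D.comb_self a _ (by simp), Split.cmp_oi, ht]
  · obtain ⟨_, e⟩ := O.comb_cc q₁ h _ _ hi ha
    rw [e, D.comb_self _ a (by simp), Split.oi_cmp, hs]

end Groth.Agent.QuotGrpd
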