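import Mathlib
import Groth.Agent.QuotGrpdLib.Ops
import Groth.Agent.GrpdLib.Quot.Props
import Groth.Agent.GrpdLib.Quot.Sub
import Groth.Agent.GrpdLib.QuotSheaf

/-!
# The quotient groupoid by a finite locally free subgroupoid
-/

set_option autoImplicit false
set_option backward.isDefEq.respectTransparency false
set_option maxHeartbeats 1600000

universe u

open CategoryTheory CategoryTheory.Limits AlgebraicGeometry

noncomputable section

namespace Groth.Agent.QuotGrpd

open Split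

variable {S : Scheme.{u}} {G : Grpd.GroupoidScheme S} {D : Sub G} {K : RB D} (O : K.Ops)
variable [Flat D.po.left] [Surjective D.po.left]

theorem over_cond {T : Scheme.{u}} {α β : T ⟶ K.Rb.left} (h : α ≫ K.s.left = β ≫ K.t.left) :
    β ≫ K.Rb.hom = α ≫ K.Rb.hom := by
  exact (congrArg (β ≫ ·) (Over.w K.t)).symm.trans (((Category.assoc _ _ _).symm.trans
    ((congrArg (· ≫ D.M.hom) h).symm.trans (Category.assoc _ _ _))).trans (congrArg (α ≫ ·) (Over.w K.s)))

/-- A pair of points as morphisms over `S`. -/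
theorem exists_over {T : Scheme.{u}} {α β : T ⟶ K.Rb.left} (h : α ≫ K.s.left = β ≫ K.t.left) :
    ∃ (α' β' : Over.mk (α ≫ K.Rb.hom) ⟶ K.Rb) (h' : α' ≫ K.s = β' ≫ K.t),
      α'.left = α ∧ β'.left = β ∧ (O.cc α' β' h').left = pullback.lift α β h ≫ O.c :=
  ⟨Over.homMk α rfl, Over.homMk β (over_cond h), Over.OverMorphism.ext h, rfl, rfl, O.cc_left _ _ _⟩

/-- The quotient groupoid. -/
def grpd : Grpd.GroupoidScheme S where
  U := D.M.left
  R := K.Rb.left
  pU := D.M.hom
  pR := K.Rb.hom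
  s := K.s.left
  t := K.t.left
  e := O.e.left
  i := O.i.left
  c := O.c
  s_over := Over.w K.s
  t_over := Over.w K.t
  comp_s := fun {T} α β h => by
    obtain ⟨α', β', h', -, hb, hc⟩ := exists_over O h
    rw [← hc, ← hb]
    exact congrArg Over.Hom.left (O.cc_ends h').1
  comp_t := fun {T} α β h => by
    obtain ⟨α', β', h', ha, -, hc⟩ := exists_over O h
    rw [← hc]
    exact (congrArg Over.Hom.left (O.cc_ends h').2).trans (congrArg (· ≫ K.t.left) ha)
  assoc := fun {T} α β γ h₁ h₂ => by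
    let αo : Over.mk (α ≫ K.Rb.hom) ⟶ K.Rb := Over.homMk α rfl
    let βo : Over.mk (α ≫ K.Rb.hom) ⟶ K.Rb := Over.homMk β (over_cond h₁)
    let δo : Over.mk (α ≫ K.Rb.hom) ⟶ K.Rb := Over.homMk γ ((over_cond h₂).trans (over_cond h₁))
    have k₁ : αo ≫ K.s = βo ≫ K.t := Over.OverMorphism.ext h₁
    have k₂ : βo ≫ K.s = δo ≫ K.t := Over.OverMorphism.ext h₂
    have e := congrArg Over.Hom.left (O.cc_assoc k₁ k₂)
    have a₁ : (O.cc αo βo k₁).left = pullback.lift α β h₁ ≫ O.c := O.cc_left _ _ _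
    have a₂ : (O.cc βo δo k₂).left = pullback.lift β γ h₂ ≫ O.c := O.cc_left _ _ _
    refine (Eq.trans ?_ (O.cc_left _ δo ((O.cc_ends k₁).1.trans k₂)).symm).trans
      (e.trans ((O.cc_left αo _ (k₁.trans (O.cc_ends k₂).2.symm)).trans ?_))
    · congr 1
      apply pullback.hom_ext
      · rw [pullback.lift_fst, pullback.lift_fst]; exact a₁.symm
      · rw [pullback.lift_snd, pullback.lift_snd]; rfl
    · congr 1
      apply pullback.hom_ext
      · rw [pullback.lift_fst, pullback.lift_fst]; rfl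
      · rw [pullback.lift_snd, pullback.lift_snd]; exact a₂
  e_s := congrArg Over.Hom.left O.e_st.1
  e_t := congrArg Over.Hom.left O.e_st.2
  comp_e := fun {T} α => by
    let αo : Over.mk (α ≫ K.Rb.hom) ⟶ K.Rb := Over.homMk α rfl
    have hh : αo ≫ K.s = (αo ≫ K.s ≫ O.e) ≫ K.t := by
      simp [O.e_st.2]
    have e := congrArg Over.Hom.left ((O.cc_id αo).1 hh)
    rw [O.cc_left] at e
    exact e
  e_comp := fun {T} α => by
    let αo : Over.mk (α ≫ K.Rb.hom) ⟶ K.Rb := Over.homMk α rfl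
    have hh : (αo ≫ K.t ≫ O.e) ≫ K.s = αo ≫ K.t := by
      simp [O.e_st.1]
    have e := congrArg Over.Hom.left ((O.cc_id αo).2.1 hh)
    rw [O.cc_left] at e
    exact e
  i_s := congrArg Over.Hom.left O.i_st.1
  i_t := congrArg Over.Hom.left O.i_st.2
  comp_i := fun {T} α => by
    let αo : Over.mk (α ≫ K.Rb.hom) ⟶ K.Rb := Over.homMk α rfl
    have hh : αo ≫ K.s = (αo ≫ O.i) ≫ K.t := by
      simp [O.i_st.2]
    have e := congrArg Over.Hom.left ((O.cc_id αo).2.2.1 hh)
    rw [O.cc_left] at e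
    exact e
  i_comp := fun {T} α => by
    let αo : Over.mk (α ≫ K.Rb.hom) ⟶ K.Rb := Over.homMk α rfl
    have hh : (αo ≫ O.i) ≫ K.s = αo ≫ K.t := by
      simp [O.i_st.1]
    have e := congrArg Over.Hom.left ((O.cc_id αo).2.2.2 hh)
    rw [O.cc_left] at e
    exact e

/-- The morphism to the quotient groupoid. -/
def grpdHom : Grpd.GroupoidScheme.Hom G (grpd O) where
  fU := D.po.left
  fR := K.qo.left
  fU_over := Over.w D.po
  comm_s := congrArg Over.Hom.left K.qo_s
  comm_t := congrArg Over.Hom.left K.qo_t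
  comm_c := fun {T} α β h => by
    let αo : Over.mk (α ≫ G.pR) ⟶ oR G := Over.homMk α rfl
    let βo : Over.mk (α ≫ G.pR) ⟶ oR G := Over.homMk β (by
      show β ≫ G.pR = α ≫ G.pR
      rw [← G.t_over, ← reassoc_of% h, G.s_over, G.t_over])
    have h' : αo ≫ os G = βo ≫ ot G := Over.OverMorphism.ext h
    have hk : (αo ≫ K.qo) ≫ K.s = (βo ≫ K.qo) ≫ K.t := by
      rw [Category.assoc, Category.assoc, K.qo_s, K.qo_t, reassoc_of% h']
    have e := congrArg Over.Hom.left (O.cc_comb αo βo hk (congrArg (· ≫ D.po) h'))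
    rw [O.cc_left, D.comb_self αo βo h'] at e
    exact e.symm

theorem grpd_j : (grpd O).j = K.jb.left := by
  apply pullback.hom_ext
  · simp [Grpd.GroupoidScheme.j, grpd, RB.t, v1]
  · simp [Grpd.GroupoidScheme.j, grpd, RB.s, v2]

theorem isPullback_grpdHom :
    IsPullback (grpdHom O).fR G.j (grpd O).j
      (pullback.map G.pU G.pU (grpd O).pU (grpd O).pU (grpdHom O).fU (grpdHom O).fU (𝟙 S)
        ((Category.comp_id _).trans (grpdHom O).fU_over.symm)
        ((Category.comp_id _).trans (grpdHom O).fU_over.symm)) := by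
  rw [grpd_j]
  exact K.sq.map (Over.forget S)

end Groth.Agent.QuotGrpd

namespace Groth.Agent.QuotGrpd

open Split

/-- Quotient by a finite locally free subgroupoid. -/
theorem exists_quotient_grpd {S : Scheme.{u}} (G : Grpd.GroupoidScheme S) [IsAffine G.U]
    [IsSeparated G.j] [LocallyQuasiFinite G.j] [LocallyOfFiniteType G.j]
    (P : Scheme.{u}) (ιP : P ⟶ G.R) [Mono ιP]
    (he : ∃ eP : G.U ⟶ P, eP ≫ ιP = G.e) (hi : ∃ iP : P ⟶ P, iP ≫ ιP = ιP ≫ G.i)
    (hc : ∃ cP : pullback (ιP ≫ G.s) (ιP ≫ G.t) ⟶ P,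
      cP ≫ ιP = pullback.map (ιP ≫ G.s) (ιP ≫ G.t) G.s G.t ιP ιP (𝟙 G.U) (Category.comp_id _) (Category.comp_id _) ≫ G.c)
    [IsFinite (ιP ≫ G.s)] [Flat (ιP ≫ G.s)] [LocallyOfFinitePresentation (ιP ≫ G.s)] [Mono (ιP ≫ G.j)] :
    ∃ (H : Grpd.GroupoidScheme S) (φ : Grpd.GroupoidScheme.Hom G H),
      IsAffine H.U ∧
      QuotSh.IsQuotient Scheme.fppfPrecoverage
        (Over.homMk (ιP ≫ G.s) ((Category.assoc _ _ _).trans (congrArg (ιP ≫ ·) G.s_over)) :
          (Over.mk (ιP ≫ G.pR) : Over S) ⟶ Over.mk G.pU)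
        (Over.homMk (ιP ≫ G.t) ((Category.assoc _ _ _).trans (congrArg (ιP ≫ ·) G.t_over)) :
          (Over.mk (ιP ≫ G.pR) : Over S) ⟶ Over.mk G.pU)
        (Over.homMk φ.fU φ.fU_over : Over.mk G.pU ⟶ Over.mk H.pU) ∧
      IsFinite φ.fU ∧ Flat φ.fU ∧ LocallyOfFinitePresentation φ.fU ∧
      IsPullback (ιP ≫ G.t) (ιP ≫ G.s) φ.fU φ.fU ∧
      IsPullback φ.fR G.j H.j
        (pullback.map G.pU G.pU H.pU H.pU φ.fU φ.fU (𝟙 S)
          ((Category.comp_id _).trans φ.fU_over.symm) ((Category.comp_id _).trans φ.fU_over.symm)) := by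
  obtain ⟨eP, heP⟩ := he
  obtain ⟨iP, hiP⟩ := hi
  obtain ⟨cP, hcP⟩ := hc
  let H₀ := GrpdLib.sub G (𝟙 _) ιP (ιP ≫ G.s) (ιP ≫ G.t) (Category.comp_id _) (Category.comp_id _)
    eP (heP.trans (Category.id_comp _).symm) iP hiP cP hcP
  haveI : IsAffine H₀.U := ‹IsAffine G.U›
  haveI : IsFinite H₀.s := ‹IsFinite (ιP ≫ G.s)›
  haveI : Flat H₀.s := ‹Flat (ιP ≫ G.s)›
  haveI : LocallyOfFinitePresentation H₀.s := ‹LocallyOfFinitePresentation (ιP ≫ G.s)›
  haveI : Mono H₀.j := by
    refine ⟨fun {T} a b h => (cancel_mono (ιP ≫ G.j)).mp ?_⟩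
    apply pullback.hom_ext
    · have := congrArg (· ≫ pullback.fst _ _) h
      simpa [Grpd.GroupoidScheme.j, H₀] using this
    · have := congrArg (· ≫ pullback.snd _ _) h
      simpa [Grpd.GroupoidScheme.j, H₀] using this
  obtain ⟨Y, p, hp, -, -, -, hmono, haff⟩ := GrpdLib.exists_quotient H₀
    (fun x => ⟨⊤, isAffineOpen_top _, fun _ _ => trivial⟩)
  obtain ⟨sqp, hpf, hpflat, hplfp⟩ := hmono inferInstance
  haveI := hpf; haveI := hpflat; haveI := hplfp
  haveI : IsAffine Y := haff inferInstance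
  haveI : Surjective p := ⟨hp.surj⟩
  obtain ⟨pY, hpY, -⟩ := hp.existsUnique_desc H₀ G.pU (by
    show (ιP ≫ G.t) ≫ G.pU = (ιP ≫ G.s) ≫ G.pU
    rw [Category.assoc, Category.assoc, G.t_over, G.s_over])
  let oP : Over S := Over.mk (ιP ≫ G.pR)
  let ι : oP ⟶ oR G := Over.homMk ιP rfl
  let M : Over S := Over.mk pY
  let po : oU G ⟶ M := Over.homMk p hpY
  have sq : IsPullback (ι ≫ ot G) (ι ≫ os G) po po := AlgSpLib.isPullback_over sqp
  let D : Sub G :=
    { P := oP, ι := ι, M := M, po := po, sq := sq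
      one := fun T x => ⟨Over.homMk (x.left ≫ eP) (by
          show (x.left ≫ eP) ≫ ιP ≫ G.pR = T.hom
          rw [Category.assoc, reassoc_of% heP]
          exact Over.w (x ≫ oe G)), Over.OverMorphism.ext ((Category.assoc _ _ _).trans (congrArg (_ ≫ ·) heP))⟩
      mul := fun T a b h => by
        have h' : a.left ≫ ιP ≫ G.s = b.left ≫ ιP ≫ G.t := by
          have := congrArg Over.Hom.left h
          exact (Category.assoc _ _ _).symm.trans (this.trans (Category.assoc _ _ _))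
        have e : (pullback.lift a.left b.left h' ≫ cP) ≫ ιP =
            pullback.lift (a.left ≫ ιP) (b.left ≫ ιP) (by rw [Category.assoc, h', Category.assoc]) ≫ G.c := by
          rw [Category.assoc, hcP, ← Category.assoc]
          congr 1
          apply pullback.hom_ext <;> simp
        refine ⟨Over.homMk (pullback.lift a.left b.left h' ≫ cP) ?_, Over.OverMorphism.ext e⟩
        show (pullback.lift a.left b.left h' ≫ cP) ≫ ιP ≫ G.pR = T.hom
        rw [← Category.assoc _ ιP G.pR, e]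
        exact Over.w (cmp (a ≫ ι) (b ≫ ι) h) }
  haveI : Flat D.po.left := hpflat
  haveI : LocallyOfFinitePresentation D.po.left := hplfp
  haveI : Surjective D.po.left := inferInstanceAs (Surjective p)
  obtain ⟨K⟩ := exists_RB D
  obtain ⟨O⟩ := K.exists_ops
  refine ⟨grpd O, grpdHom O, ‹IsAffine Y›, ?_, hpf, hpflat, hplfp, sqp, isPullback_grpdHom O⟩
  exact GrpdLib.isQuotient_of_isPullback (M := M) _ _ po sqp

end Groth.Agent.QuotGrpd
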